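import Cfsg.Agent.H13.NoSPBOf
import Cfsg.Agent.MonsterP.Equiv
import Cfsg.Agent.MonsterU.NodesU

/-!
# `NoSP p` for the Monster from `NoSP p` for the Baby Monster, `p = 3, 5, 7` (helper13)

The Monster is generated by the nodes of `Y553`; all of them but `e2` lie in the centraliser `2.B` of `f2`, and `e2`
commutes with `c1, b1, a, b3, c3, d3`, hence with elements of order 3, 5, 7 of this centraliser.
-/

set_option autoImplicit false

namespace Cfsg.Agent.H13.NoSPMOf

open Cfsg Subgroup Cfsg.Agent.EvenType.StrongP Cfsg.Agent.H998.StrP Cfsg.Agent.H13.NoSPGen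
open Cfsg.Agent.Bimonster Cfsg.Agent.MonsterX Cfsg.Agent.MonsterX.Model Cfsg.Agent.MonsterX.MainPack
open Cfsg.Agent.MonsterX.MainBasic Cfsg.Agent.MonsterU.Assembly
open Cfsg.Agent.TwoESix.Cox10 (M10 lab adj rep ev_rep ev_eq_ev ev_nil ev_cons lab_cases M10_apply)

/-- `NoSP p` goes up to double covers. -/
theorem of_cover {p : ℕ} [hp : Fact p.Prime] (hp2 : p ≠ 2) {L K : Type*} [Group L] [Finite L] [Group K] [Finite K]
    (h : IsNonsplitDoubleCover L K) (hK : NoSP p K) : NoSP p L := by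
  obtain ⟨hc, ⟨e⟩, -⟩ := h
  have hker : (e.toMonoidHom.comp (QuotientGroup.mk' (center L))).ker = center L := by
    ext x
    rw [MonoidHom.mem_ker]
    show e (QuotientGroup.mk' (center L) x) = 1 ↔ _
    rw [map_eq_one_iff e e.injective]
    exact QuotientGroup.eq_one_iff _
  refine NoSP.of_surj (e.toMonoidHom.comp (QuotientGroup.mk' (center L)))
    (e.surjective.comp (QuotientGroup.mk'_surjective _)) (by rw [hker]) ?_ hK
  rw [hker, hc]
  intro hd
  exact hp2 ((Nat.prime_dvd_prime_iff_eq hp.out Nat.prime_two).1 hd)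

/-! ### The nodes -/

/-- The nodes of `Y553` in the group of the model. -/
theorem exists_nodes : ∃ y : ℕ → InstData.M.G, PRel y ∧ closure (nodes 14 y) = ⊤ ∧ y 0 ≠ y 1 ∧
    IsNonsplitDoubleCover (centralizer ({y 10} : Set InstData.M.G)) Spor.BabyMonster := by
  let A := MonsterU.Uncond.all
  have hB : IsB Spor.BabyMonster := S1704.result
  have := G_finite A.hO
  have h := babyHyp A.hG A.hR A.hL A.hO A.hT A.hB
  obtain ⟨g, hg⟩ := MonsterU.NodesU.conj_ten
  have hgen : closure (nodes 14 (MonsterP.NodesGrp.y MonsterU.NodesU.hyp)) = ⊤ :=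
    MonsterP.NodesDone.gen InstanceFinal.mOrbit hB
  have hP := MonsterP.BaseOf.prel_conj g⁻¹ (MonsterP.NodesGrp.prel MonsterU.NodesU.hyp)
  have h10 : g⁻¹ * MonsterP.NodesGrp.y MonsterU.NodesU.hyp 10 * g⁻¹⁻¹ = tG A.hG A.hR := by
    rw [← hg]; group
  have hne := MonsterP.NodesNe.ne MonsterU.NodesU.hyp
  have hsq : h.tH ∈ Subgroup.closure
      {x : Subgroup.centralizer ({tG A.hG A.hR} : Set InstData.M.G) | ∃ y, x = y * y} := by
    obtain ⟨a, ha, hat, c, hc, hct, e⟩ := A.hB.sq
    let a' : Subgroup.centralizer ({tG A.hG A.hR} : Set InstData.M.G) :=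
      ⟨⟨a, C_le ha⟩, (mem_cent_t_iff A.hG A.hR _).2 hat⟩
    let c' : Subgroup.centralizer ({tG A.hG A.hR} : Set InstData.M.G) :=
      ⟨⟨c, C_le hc⟩, (mem_cent_t_iff A.hG A.hR _).2 hct⟩
    have e' : h.tH = a' * (c' * a' * c'⁻¹) := Subtype.ext (Subtype.ext e)
    rw [e']
    exact Cfsg.Agent.MonsterX.MonsterPack.mul_conj_mem_closure_sq a' c'
  have hne' : g⁻¹ * MonsterP.NodesGrp.y MonsterU.NodesU.hyp 0 * g⁻¹⁻¹ ≠
      g⁻¹ * MonsterP.NodesGrp.y MonsterU.NodesU.hyp 1 * g⁻¹⁻¹ := fun e => hne ((MulAut.conj g⁻¹).injective e)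
  refine ⟨fun i => g⁻¹ * MonsterP.NodesGrp.y MonsterU.NodesU.hyp i * g⁻¹⁻¹, hP,
    MonsterP.BaseOf.gen_conj g⁻¹ hgen, hne', ?_⟩
  have hcov := cover_aux hP h10 h hsq (card_cent_t A.hG A.hR A.hL A.hO A.hT) hB hne'
  show IsNonsplitDoubleCover (centralizer ({g⁻¹ * MonsterP.NodesGrp.y MonsterU.NodesU.hyp 10 * g⁻¹⁻¹} : Set InstData.M.G)) _
  rw [h10]
  exact hcov

/-- The subdiagram `Y333` with nodes `d1 c1 b1 a b2 c2 d2 b3 c3 d3`. -/
def em : Fin 10 → ℕ := ![3, 2, 1, 0, 6, 7, 8, 11, 12, 13]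

theorem em_lt : ∀ i, em i < 14 := by decide

theorem em_adj : ∀ i j, i ≠ j → adjB (em i) (em j) = adj i j := by decide +kernel

theorem lab_adj : ∀ i j : Fin 10, (lab i j = 1 ∧ i = j) ∨ (lab i j = 2 ∧ i ≠ j ∧ adj i j = false) ∨
    (lab i j = 3 ∧ i ≠ j ∧ adj i j = true) := by decide +kernel

theorem lift {G : Type*} [Group G] {y : ℕ → G} (h : CoxRel 14 y) : M10.IsLiftable (fun i => y (em i)) := by
  intro i j
  rw [M10_apply]
  have hi := h.sq _ (em_lt i)
  have hj := h.sq _ (em_lt j)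
  rcases lab_adj i j with ⟨h1, rfl⟩ | ⟨h1, h2, h3⟩ | ⟨h1, h2, h3⟩
  · rw [h1, pow_one]
    exact hi
  · rw [h1, pow_two]
    have hc := h.cm _ (em_lt i) _ (em_lt j) (by rw [em_adj i j h2, h3])
    calc y (em i) * y (em j) * (y (em i) * y (em j)) = y (em i) * y (em j) * (y (em j) * y (em i)) := by rw [hc]
      _ = y (em i) * (y (em j) * y (em j)) * y (em i) := by group
      _ = 1 := by rw [hj, mul_one, hi]
  · rw [h1]
    have hc := h.br _ (em_lt i) _ (em_lt j) (by rw [em_adj i j h2, h3])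
    calc (y (em i) * y (em j)) ^ 3 = (y (em i) * y (em j) * y (em i)) * (y (em j) * y (em i) * y (em j)) := by
          rw [pow_succ, pow_two]; simp only [mul_assoc]
      _ = (y (em j) * y (em i) * y (em j)) * (y (em j) * y (em i) * y (em j)) := by rw [hc]
      _ = y (em j) * y (em i) * (y (em j) * y (em j)) * y (em i) * y (em j) := by simp only [mul_assoc]
      _ = y (em j) * (y (em i) * y (em i)) * y (em j) := by rw [hj, mul_one]; simp only [mul_assoc]
      _ = 1 := by rw [hi, mul_one, hj]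

theorem adj_ten : ∀ i < 14, i ≠ 9 → adjB i 10 = false := by decide +kernel

theorem em_ten : ∀ i : Fin 10, i ≠ 6 → adjB (em i) 10 = false ∧ adjB (em i) 9 = false := by decide +kernel

theorem comm_word {G : Type*} [Group G] {y : ℕ → G} (h : CoxRel 14 y) {k : ℕ} (hk : k < 14)
    {w : List (Fin 10)} (hw : ∀ i ∈ w, adjB (em i) k = false) :
    y k * Cfsg.Agent.TwoESix.Cox10.ev (fun i => y (em i)) w = Cfsg.Agent.TwoESix.Cox10.ev (fun i => y (em i)) w * y k := by
  induction w with
  | nil => rw [ev_nil, mul_one, one_mul]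
  | cons i w ih =>
    rw [ev_cons, ← mul_assoc, ← h.cm _ (em_lt i) _ hk (hw i List.mem_cons_self), mul_assoc,
      ih (fun j hj => hw j (List.mem_cons_of_mem _ hj)), mul_assoc]

/-- The general step. -/
theorem noSP_of {p : ℕ} [hp : Fact p.Prime] (hp2 : p ≠ 2) {w : List (Fin 10)} (hw : ∀ i ∈ w, lab 0 i = 2)
    (hw' : ∀ i ∈ w, i ≠ 6) (hc : Cfsg.Agent.TwoESix.Cox10.chk (rep p (1 :: w)) [] = true) (h : NoSP p Spor.BabyMonster)
    {G : Type*} [Group G] [Finite G] (hG : Spor.IsoM G) : NoSP p G := by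
  obtain ⟨e⟩ := hG
  obtain ⟨e'⟩ := MonsterP.Equiv.equiv
  have hfin : Finite InstData.M.G := Finite.of_equiv _ (e.trans e').toEquiv
  refine NoSP.congr (e.trans e') ?_
  obtain ⟨y, hP, hgen, hne, hcov⟩ := exists_nodes
  have hBf : Finite Spor.BabyMonster := Nat.finite_of_card_ne_zero (by rw [BM.KHAll.card_B]; norm_num)
  have hL : NoSP p (centralizer ({y 10} : Set InstData.M.G)) := of_cover hp2 hcov h
  have hall : ∀ i ∈ (1 :: w : List (Fin 10)), i ≠ 6 := by
    intro i hi
    rcases List.mem_cons.1 hi with rfl | h1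
    · decide
    · exact hw' i h1
  have hx : orderOf (Cfsg.Agent.TwoESix.Cox10.ev (fun i => y (em i)) (1 :: w)) = p := by
    refine orderOf_eq_prime ?_ (NoSPBOf.ne_one (lift hP.cox) ⟨2, ?_⟩ w hw)
    · rw [← ev_rep, ev_eq_ev (lift hP.cox) hc, ev_nil]
    · intro h0
      apply hne
      have h1 := NoSPBOf.all_eq (lift hP.cox)
      have h2 : (fun i => y (em i)) 2 = (fun i => y (em i)) 0 := h0
      have h3 : ∀ i, (fun i => y (em i)) i = (fun i => y (em i)) 0 := by
        refine h1 ?_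
        have h4 : y (em 0) * y (em 1) = y (em 1) * y (em 0) := by
          have h5 : y (em 0) = y (em 2) := h2.symm
          rw [h5]
          have h6 := hP.cox.cm (em 0) (em_lt 0) (em 2) (em_lt 2) (by decide +kernel)
          have h7 : y (em 2) = y (em 0) := h2
          have h8 := hP.cox.br (em 1) (em_lt 1) (em 2) (em_lt 2) (by decide +kernel)
          have h9 := hP.cox.br (em 2) (em_lt 2) (em 3) (em_lt 3) (by decide +kernel)
          have h10 := hP.cox.cm (em 0) (em_lt 0) (em 3) (em_lt 3) (by decide +kernel)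
          -- `y (em 2) = y (em 0)` commutes with `y (em 3)`
          have h11 : y (em 2) = y (em 3) := NoSPBOf.eq_of_comm (lift hP.cox) (i := 2) (j := 3) (by decide)
            (by show y (em 2) * y (em 3) = y (em 3) * y (em 2); rw [h7]; exact h10)
          have h12 := hP.cox.cm (em 1) (em_lt 1) (em 3) (em_lt 3) (by decide +kernel)
          rw [h11]
          exact h12.symm
        exact h4
      have ha : y 0 = (fun i => y (em i)) 0 := h3 3
      have hb : y 1 = (fun i => y (em i)) 0 := h3 2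
      rw [ha, hb]
  refine noSP_of_gen hL hx ?_ (S := {y 9}) ?_ ?_
  · rw [mem_centralizer_singleton_iff]
    exact (comm_word hP.cox (by norm_num) fun i hi => (em_ten i (hall i hi)).1).symm
  · rintro _ rfl
    exact comm_word hP.cox (by norm_num) fun i hi => (em_ten i (hall i hi)).2
  · rw [eq_top_iff, ← hgen, closure_le]
    rintro _ ⟨i, hi, rfl⟩
    by_cases h9 : i = 9
    · rw [h9]
      exact subset_closure (Or.inl rfl)
    · refine subset_closure (Or.inr ?_)
      show y i ∈ centralizer _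
      rw [mem_centralizer_singleton_iff]
      exact hP.cox.cm i hi 10 (by norm_num) (adj_ten i hi h9)

theorem chk7 : Cfsg.Agent.TwoESix.Cox10.chk (rep 7 [1, 2, 3, 7, 8, 9]) [] = true := by decide +kernel

/-- **`NoSP 7` for the Monster** from `NoSP 7` for the Baby Monster. -/
theorem nosp_m_7 (h : NoSP 7 Spor.BabyMonster) {G : Type*} [Group G] [Finite G] (hG : Spor.IsoM G) : NoSP 7 G := by
  have : Fact (Nat.Prime 7) := ⟨by norm_num⟩
  exact noSP_of (by norm_num) (w := [2, 3, 7, 8, 9]) (by decide) (by decide) chk7 h hG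

/-- **`NoSP 5` for the Monster** from `NoSP 5` for the Baby Monster. -/
theorem nosp_m_5 (h : NoSP 5 Spor.BabyMonster) {G : Type*} [Group G] [Finite G] (hG : Spor.IsoM G) : NoSP 5 G := by
  have : Fact (Nat.Prime 5) := ⟨by norm_num⟩
  exact noSP_of (by norm_num) (w := [2, 3, 4]) (by decide) (by decide) NoSPBOf.chk5 h hG

/-- **`NoSP 3` for the Monster** from `NoSP 3` for the Baby Monster. -/
theorem nosp_m_3 (h : NoSP 3 Spor.BabyMonster) {G : Type*} [Group G] [Finite G] (hG : Spor.IsoM G) : NoSP 3 G := by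
  have : Fact (Nat.Prime 3) := ⟨by norm_num⟩
  exact noSP_of (by norm_num) (w := [2]) (by decide) (by decide) NoSPBOf.chk3 h hG

end Cfsg.Agent.H13.NoSPMOf
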