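import Cfsg.Agent.H13.RankLeech
import Cfsg.Agent.S0402
import Cfsg.Agent.S1575
import Cfsg.Agent.S1576
import Cfsg.Agent.SporadicA.Co0Basic

/-!
# Complemented subgroup lattices: Co1 (helper13, S5900)
-/

set_option autoImplicit false

namespace Cfsg.Agent.H13.RankCo1

open Subgroup MulAction Cfsg Cfsg.Agent.H939.KLat Cfsg.Agent.H13.RankCL Cfsg.Agent.H13.RankRows
open Cfsg.Agent.SporadicStructure.Co2RankThree Cfsg.Agent.SporadicA.Co0Basic

/-- vectors of inner product `± k` with `a0` -/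
def Bk (k : ℤ) : Set leechLattice := {x | dt x x = 32 ∧ (dt a0 x = -k ∨ dt a0 x = k)}

theorem neg_act (v : leechLattice) : negCo0 • v = -v := rfl

theorem ncard_Bk {k : ℤ} (hk : 0 < k) {n : ℕ} (hn : 0 < n)
    (h : {w : GolayPt → ℤ | w ∈ leechLattice ∧ sqNorm w = 32 ∧ dotInt (a0 : GolayPt → ℤ) w = -k}.ncard = n) :
    (Bk k).ncard = 2 * n := by
  have h1 : ({x : leechLattice | dt x x = 32 ∧ dt a0 x = -k}).ncard = n := by
    rw [← h, ← ncard_coe (fun w => sqNorm w = 32 ∧ dotInt (a0 : GolayPt → ℤ) w = -k)]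
    simp only [norm_eq]
    rfl
  have h2 : Bk k = {x : leechLattice | dt x x = 32 ∧ dt a0 x = -k} ∪
      (fun x => -x) '' {x : leechLattice | dt x x = 32 ∧ dt a0 x = -k} := by
    ext x
    constructor
    · rintro ⟨h1, h2 | h2⟩
      · exact Or.inl ⟨h1, h2⟩
      · refine Or.inr ⟨-x, ⟨?_, ?_⟩, neg_neg x⟩
        · rw [dt_neg_left, dt_neg_right, neg_neg]; exact h1
        · rw [dt_neg_right, h2]
    · rintro (⟨h1, h2⟩ | ⟨y, ⟨h1, h2⟩, rfl⟩)
      · exact ⟨h1, Or.inl h2⟩
      · refine ⟨?_, Or.inr ?_⟩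
        · rw [dt_neg_left, dt_neg_right, neg_neg]; exact h1
        · rw [dt_neg_right, h2, neg_neg]
  have hfin : ({x : leechLattice | dt x x = 32 ∧ dt a0 x = -k}).Finite :=
    Set.finite_of_ncard_ne_zero (by omega)
  rw [h2, Set.ncard_union_eq ?_ hfin (hfin.image _), Set.ncard_image_of_injective _ neg_injective, h1, two_mul]
  rw [Set.disjoint_left]
  rintro x ⟨-, h3⟩ ⟨y, ⟨-, h4⟩, rfl⟩
  have h5 : dt a0 (-y) = -k := h3
  rw [dt_neg_right, h4] at h5
  omega

theorem trans_Bk {k : ℤ} (h : ∀ w w' : leechLattice, dt w w = 32 → dt w' w' = 32 → dt a0 w = -k → dt a0 w' = -k →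
    ∃ g : Co0, g • a0 = a0 ∧ g • w = w') {a b : leechLattice} (ha : a ∈ Bk k) (hb : b ∈ Bk k) :
    ∃ x ∈ stabilizer Co0 a0 ⊔ center Co0, x • a = b := by
  have key : ∀ a ∈ Bk k, ∃ z ∈ center Co0, dt (z • a) (z • a) = 32 ∧ dt a0 (z • a) = -k := by
    rintro a ⟨h1, h2 | h2⟩
    · exact ⟨1, one_mem _, by rw [one_smul]; exact h1, by rw [one_smul]; exact h2⟩
    · refine ⟨negCo0, negCo0_mem_center, (dt_smul _ _ _).trans h1, ?_⟩
      rw [neg_act, dt_neg_right, h2]
  obtain ⟨z, hz, h1, h2⟩ := key a ha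
  obtain ⟨y, hy, h3, h4⟩ := key b hb
  obtain ⟨g, hg, hgz⟩ := h _ _ h1 h3 h2 h4
  refine ⟨y⁻¹ * (g * z), mul_mem (mem_sup_right (inv_mem hy)) (mul_mem (mem_sup_left hg) (mem_sup_right hz)), ?_⟩
  rw [mul_smul, mul_smul, hgz, inv_smul_smul]

theorem trans_orth {a b : leechLattice} (ha : dt a a = 32 ∧ dt a0 a = 0) (hb : dt b b = 32 ∧ dt a0 b = 0) :
    ∃ x ∈ stabilizer Co0 a0 ⊔ center Co0, x • a = b := by
  obtain ⟨g, hg, h | h⟩ := S1576.result a0 a b (by rw [norm_eq]; exact dt_a0_a0) (by rw [norm_eq]; exact ha.1)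
    (by rw [norm_eq]; exact hb.1) ha.2 hb.2
  · exact ⟨g, mem_sup_left hg, h⟩
  · refine ⟨negCo0 * g, mul_mem (mem_sup_right negCo0_mem_center) (mem_sup_left hg), ?_⟩
    rw [mul_smul, h, neg_act, neg_neg]

/-- the blocks -/
def B : Fin 4 → Set leechLattice := ![{-a0}, Bk 16, Bk 8, {x | dt x x = 32 ∧ dt a0 x = 0}]

theorem B_card (i : Fin 4) : (B i).ncard = ![1, 9200, 94208, 93150] i := by
  obtain ⟨h1, h2, h3⟩ := S1573.result (a0 : GolayPt → ℤ) a0.2 (by rw [norm_eq]; exact dt_a0_a0)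
  fin_cases i
  · exact Set.ncard_singleton _
  · exact ncard_Bk (by norm_num) (by norm_num) h1
  · exact ncard_Bk (by norm_num) (by norm_num) h2
  · exact ncard_orth a0 dt_a0_a0

theorem B_trans (i : Fin 4) : ∀ a ∈ B i, ∀ b ∈ B i, ∃ x ∈ stabilizer Co0 a0 ⊔ center Co0, x • a = b := by
  intro a ha b hb
  have h0 : sqNorm (a0 : GolayPt → ℤ) = 32 := by rw [norm_eq]; exact dt_a0_a0
  fin_cases i
  · refine ⟨1, one_mem _, ?_⟩
    rw [one_smul, show a = -a0 from ha, show b = -a0 from hb]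
  · exact trans_Bk (fun w w' h1 h2 h3 h4 => S1574.result a0 w w' h0 (by rw [norm_eq]; exact h1)
      (by rw [norm_eq]; exact h2) h3 h4) ha hb
  · exact trans_Bk (fun w w' h1 h2 h3 h4 => S1575.result a0 w w' h0 (by rw [norm_eq]; exact h1)
      (by rw [norm_eq]; exact h2) h3 h4) ha hb
  · exact trans_orth ha hb

theorem B_dt (i : Fin 4) {x : leechLattice} (hx : x ∈ B i) : (dt a0 x) ^ 2 = ![1024, 256, 64, 0] i := by
  fin_cases i
  · rw [show x = -a0 from hx, dt_neg_right, dt_a0_a0]; rfl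
  · rcases hx.2 with h | h <;> rw [h] <;> rfl
  · rcases hx.2 with h | h <;> rw [h] <;> rfl
  · rw [hx.2]; rfl

theorem B_sub (i : Fin 4) : B i ⊆ {w | dt w w = 32} := by
  intro x hx
  fin_cases i
  · rw [show x = -a0 from hx]
    change dt (-a0) (-a0) = 32
    rw [dt_neg_left, dt_neg_right, neg_neg, dt_a0_a0]
  · exact hx.1
  · exact hx.1
  · exact hx.1

theorem B_o (i : Fin 4) : a0 ∉ B i := by
  intro h
  fin_cases i
  · have h1 : a0 = -a0 := h
    have h2 := congrArg (dt a0) h1
    rw [dt_neg_right, dt_a0_a0] at h2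
    omega
  · have := B_dt 1 h
    rw [dt_a0_a0] at this
    exact absurd this (by decide)
  · have := B_dt 2 h
    rw [dt_a0_a0] at this
    exact absurd this (by decide)
  · have := B_dt 3 h
    rw [dt_a0_a0] at this
    exact absurd this (by decide)

theorem B_disj (i j : Fin 4) (hij : i ≠ j) : Disjoint (B i) (B j) := by
  rw [Set.disjoint_left]
  intro x h1 h2
  have h3 := (B_dt i h1).symm.trans (B_dt j h2)
  revert h3
  fin_cases i <;> fin_cases j
  all_goals first
    | exact absurd rfl hij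
    | decide

/-- the maximal subgroup `Co2` of `Co1` -/
theorem maximal [Finite Spor.Co1] [IsSimpleGroup Spor.Co1] (Y : Subgroup Spor.Co1)
    (hXY : (stabilizer Co0 a0).map (QuotientGroup.mk' (center Co0)) ≤ Y) :
    Y ≤ (stabilizer Co0 a0).map (QuotientGroup.mk' (center Co0)) ∨ Y = ⊤ := by
  set π := QuotientGroup.mk' (center Co0) with hπ
  have hfinCo0 : Finite Co0 := Nat.finite_of_card_ne_zero (by rw [Cfsg.Agent.S1582.card_co0]; norm_num)
  have hZ : Nat.card (center Co0) = 2 := SporadicA.Co0Basic.card_center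
  set S := stabilizer Co0 a0 with hS
  set Y' := Y.comap π with hY'
  have hSY : S ≤ Y' := by rw [hY', ← Subgroup.map_le_iff_le_comap]; exact hXY
  have hCY : center Co0 ≤ Y' := by
    intro z hz
    rw [hY', Subgroup.mem_comap]
    have : π z = 1 := (QuotientGroup.eq_one_iff z).2 hz
    rw [this]; exact one_mem _
  obtain ⟨T, hT⟩ := card_eq (X := S ⊔ center Co0) (D := orbit Y' a0) (Set.finite_range _) a0 (mem_orbit_self a0)
    (by
      rintro x hx _ ⟨y, rfl⟩
      exact ⟨⟨x, (sup_le hSY hCY) hx⟩ * y, mul_smul x (y : Co0) a0⟩)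
    B B_trans B_o B_disj (by
      rintro _ ⟨y, rfl⟩
      refine cover_of (P := {w | dt w w = 32}) (Set.finite_of_ncard_ne_zero (by rw [ncard_min]; norm_num)) a0 dt_a0_a0 B
        B_sub B_o B_disj ?_ ?_
      · rw [ncard_min]
        simp_rw [B_card]
        decide
      · exact (dt_smul _ _ _).trans dt_a0_a0)
  have hn : (orbit Y' a0).ncard = 1 + ∑ i ∈ T, ![1, 9200, 94208, 93150] i := by
    rw [hT]; congr 1; exact Finset.sum_congr rfl fun i _ => B_card i
  have h1 := card_orbit_mul Y' a0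
  rw [← hS, inf_eq_right.2 hSY] at h1
  have hcS : Nat.card S = 42305421312000 := card_stab_min a0 dt_a0_a0
  have h2 := Y'.card_mul_index
  rw [Cfsg.Agent.S1582.card_co0, ← h1, hcS] at h2
  have h3 : (orbit Y' a0).ncard * Y'.index = 196560 := by
    generalize (orbit Y' a0).ncard = p at h2 ⊢
    generalize Y'.index = q at h2 ⊢
    have : (p * q) * 42305421312000 = 196560 * 42305421312000 := by
      rw [← h2.trans (by norm_num : 8315553613086720000 = 196560 * 42305421312000)]; ring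
    exact Nat.eq_of_mul_eq_mul_right (by norm_num) this
  have hidx : Y'.index = Y.index := Subgroup.index_comap_of_surjective Y (QuotientGroup.mk'_surjective _)
  have hnum : ∀ T : Finset (Fin 4), (1 + ∑ i ∈ T, ![1, 9200, 94208, 93150] i) ∣ 196560 →
      1 + ∑ i ∈ T, ![1, 9200, 94208, 93150] i ≤ 2 ∨ 196560 ≤ 2 * (1 + ∑ i ∈ T, ![1, 9200, 94208, 93150] i) := by
    decide +kernel
  rcases hnum T (by rw [← hn, ← h3]; exact Dvd.intro _ rfl) with h4 | h4
  · left
    rw [← hn] at h4
    -- `Y'` is `S ⊔ Z`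
    have h5 : Nat.card Y' ≤ 2 * Nat.card S := by
      rw [← h1]; exact Nat.mul_le_mul_right _ h4
    have hinj : ∀ a ∈ S, ∀ z ∈ center Co0, a * z ∈ S → z = 1 := by
      intro a ha z hz haz
      rcases eq_one_or_neg_of_mem_center hz with h | h
      · exact h
      · exfalso
        have h6 : z ∈ S := by
          have := mul_mem (inv_mem ha) haz
          rwa [inv_mul_cancel_left] at this
        have h7 : z • a0 = a0 := h6
        rw [h, neg_act] at h7
        have h8 := congrArg (dt a0) h7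
        rw [dt_neg_right, dt_a0_a0] at h8
        omega
    have h6 : 2 * Nat.card S ≤ Nat.card ↥(S ⊔ center Co0) := by
      let f : S × center Co0 → ↥(S ⊔ center Co0) := fun p =>
        ⟨p.1 * p.2, mul_mem (mem_sup_left p.1.2) (mem_sup_right p.2.2)⟩
      have hf : Function.Injective f := by
        rintro ⟨a, z⟩ ⟨b, y⟩ h
        have h7 : (a : Co0) * z = b * y := congrArg Subtype.val h
        have h8 : (b : Co0)⁻¹ * a * (z * (y : Co0)⁻¹) = 1 := by
          calc (b : Co0)⁻¹ * a * (z * (y : Co0)⁻¹) = (b : Co0)⁻¹ * (a * z) * (y : Co0)⁻¹ := by group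
            _ = 1 := by rw [h7]; group
        have h9 : (z : Co0) * (y : Co0)⁻¹ = 1 := hinj _ (mul_mem (inv_mem b.2) a.2) _ (mul_mem z.2 (inv_mem y.2))
          (by rw [h8]; exact one_mem _)
        rw [h9, mul_one] at h8
        have h10 : a = b := Subtype.ext (inv_mul_eq_one.1 h8).symm
        have h11 : z = y := Subtype.ext (mul_inv_eq_one.1 h9)
        rw [h10, h11]
      have := Nat.card_le_card_of_injective f hf
      rw [Nat.card_prod, hZ] at this
      omega
    have h7 : S ⊔ center Co0 = Y' :=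
      Subgroup.eq_of_le_of_card_ge (sup_le hSY hCY) (h5.trans h6)
    intro y hy
    obtain ⟨g, rfl⟩ := QuotientGroup.mk'_surjective (center Co0) y
    have hg : g ∈ S ⊔ center Co0 := by rw [h7]; exact hy
    obtain ⟨s, hs, z, hz, rfl⟩ := Subgroup.mem_sup_of_normal_right.1 hg
    refine ⟨s, hs, ?_⟩
    have hz1 : QuotientGroup.mk' (center Co0) z = 1 := (QuotientGroup.eq_one_iff z).2 hz
    rw [map_mul, hz1, mul_one]
  · right
    rw [← hn] at h4
    apply eq_top_of_index_two
    · have : Nat.card Spor.Co1 = 4157776806543360000 := NotCT.Orders.co1 ⟨MulEquiv.refl _⟩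
      omega
    · rw [← hidx]
      have hpos : 0 < (orbit Y' a0).ncard := by rw [hn]; omega
      have : (orbit Y' a0).ncard * Y'.index ≤ (orbit Y' a0).ncard * 2 := by rw [h3]; omega
      exact Nat.le_of_mul_le_mul_left this hpos

theorem finite_co1 [Finite Spor.Co1] [IsSimpleGroup Spor.Co1] (hb : Below (Nat.card Spor.Co1)) : CL Spor.Co1 := by
  set π := QuotientGroup.mk' (center Co0) with hπ
  set S := stabilizer Co0 a0 with hS
  have hfinCo0 : Finite Co0 := Nat.finite_of_card_ne_zero (by rw [Cfsg.Agent.S1582.card_co0]; norm_num)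
  have hcS : Nat.card S = 42305421312000 := card_stab_min a0 dt_a0_a0
  have hsS : IsSimpleGroup S := (S0402.result a0 (by rw [norm_eq]; exact dt_a0_a0)).1
  have hinj : Function.Injective (π.comp S.subtype) := by
    rw [injective_iff_map_eq_one]
    intro a ha
    have h1 : (a : Co0) ∈ center Co0 := (QuotientGroup.eq_one_iff _).1 ha
    rcases eq_one_or_neg_of_mem_center h1 with h | h
    · exact Subtype.ext h
    · exfalso
      have h7 : (a : Co0) • a0 = a0 := a.2
      rw [h, neg_act] at h7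
      have h8 := congrArg (dt a0) h7
      rw [dt_neg_right, dt_a0_a0] at h8
      omega
  have hr : (π.comp S.subtype).range = S.map π := by
    rw [MonoidHom.range_comp, Subgroup.range_subtype]
  let e : S ≃* ↥(S.map π) := (MonoidHom.ofInjective hinj).trans (MulEquiv.subgroupCongr hr)
  have hsX : IsSimpleGroup ↥(S.map π) := (MulEquiv.isSimpleGroup_congr e).mp hsS
  have hcX : Nat.card ↥(S.map π) = 42305421312000 := by rw [← Nat.card_congr e.toEquiv, hcS]
  have hc1 : Nat.card Spor.Co1 = 4157776806543360000 := NotCT.Orders.co1 ⟨MulEquiv.refl _⟩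
  have hne : S.map π ≠ ⊤ := by
    intro h
    rw [h, Subgroup.card_top, hc1] at hcX
    omega
  refine crit_unique (X := S.map π) (M := S.map π) (hb.apply (by rw [hcX, hc1]; norm_num)) hne fun Y hXY hY => ?_
  rcases maximal Y hXY with h | h
  · exact h
  · exact absurd h hY

theorem cl_Co1 {G : Type*} [Group G] [Finite G] [IsSimpleGroup G] (h : Spor.IsoCo1 G)
    (hb : Below (Nat.card G)) : CL G := by
  obtain ⟨e⟩ := h
  exact congr e hb fun {_ _} hb => finite_co1 hb

end Cfsg.Agent.H13.RankCo1
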