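import Cfsg.Agent.H13.RankRows
import Cfsg.Agent.SporadicStructure.Co2RankThree
import Cfsg.Agent.S0378
import Cfsg.Agent.S0379
import Cfsg.Agent.S1577
import Cfsg.Agent.S1578
import Cfsg.Agent.S1579
import Cfsg.Agent.S1580
import Cfsg.Agent.S1581
import Cfsg.Agent.S1582
import Cfsg.Agent.S1583
import Cfsg.Agent.S1584
import Cfsg.Agent.CoOneType.Thirteen
import Cfsg.Agent.SporadicA.MathieuRecog
import Cfsg.Agent.NotCT.Orders
import Cfsg.Agent.SporadicRecognition.McLAssemble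

/-!
# Complemented subgroup lattices: McL, HS, Co3, Co2 (helper13, S5900)
-/

set_option autoImplicit false

namespace Cfsg.Agent.H13.RankLeech

open Subgroup MulAction Cfsg Cfsg.Agent.H939.KLat Cfsg.Agent.H13.RankCL Cfsg.Agent.H13.RankRows
open Cfsg.Agent.SporadicStructure.Co2RankThree

/-- the point stabilizer in a subgroup of `Co0` -/
def stabEquiv {A : Subgroup (Equiv.Perm leechLattice)} (hA : A ≤ Co0) (x : leechLattice) (B : Subgroup Co0)
    (hB : ∀ g : Co0, g ∈ B ↔ (g : Equiv.Perm leechLattice) ∈ A ∧ g • x = x) : ↥(stabilizer A x) ≃* ↥B where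
  toFun g := ⟨⟨g.1.1, hA g.1.2⟩, (hB _).2 ⟨g.1.2, g.2⟩⟩
  invFun g := ⟨⟨g.1.1, ((hB g.1).1 g.2).1⟩, ((hB g.1).1 g.2).2⟩
  left_inv _ := rfl
  right_inv _ := rfl
  map_mul' _ _ := rfl

/-- the criterion for subgroups of `Co0` acting on vectors -/
theorem cl_leech {ι : Type*} [Fintype ι] {A : Subgroup (Equiv.Perm leechLattice)} (hA : A ≤ Co0)
    [Finite A] [IsSimpleGroup A] (hb : Below (Nat.card A)) (x : leechLattice) (P : Set leechLattice) (hxP : x ∈ P)
    (hPinv : ∀ g : Co0, (g : Equiv.Perm leechLattice) ∈ A → g • x ∈ P)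
    (hPtr : ∀ y ∈ P, ∃ g : Co0, (g : Equiv.Perm leechLattice) ∈ A ∧ g • x = y)
    {S : Type*} [Group S] (hS : IsSimpleGroup S) (hX : Nonempty (↥(stabilizer A x) ≃* S))
    (B : ι → Set leechLattice) (hB : ∀ i, ∀ a ∈ B i, ∀ b ∈ B i, ∃ g : Co0, (g : Equiv.Perm leechLattice) ∈ A ∧
      g • x = x ∧ g • a = b)
    (hBP : ∀ i, B i ⊆ P) (hoB : ∀ i, x ∉ B i) (hdisj : ∀ i j, i ≠ j → Disjoint (B i) (B j)) (b : ι → ℕ)
    (hcb : ∀ i, (B i).ncard = b i) (N : ℕ) (hPN : P.ncard = N) (hN2 : 1 < N) (hsum : N ≤ 1 + ∑ i, b i)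
    (hnum : ∀ S : Finset ι, (1 + ∑ i ∈ S, b i) ∣ N → 1 + ∑ i ∈ S, b i ≤ 2 ∨ N ≤ 2 * (1 + ∑ i ∈ S, b i)) :
    CL A := by
  obtain ⟨e⟩ := hX
  have hPfin : P.Finite := Set.finite_of_ncard_ne_zero (by omega)
  have hP : orbit A x = P := by
    ext y
    constructor
    · rintro ⟨g, rfl⟩
      exact hPinv ⟨g.1, hA g.2⟩ g.2
    · intro hy
      obtain ⟨g, hg, hgx⟩ := hPtr y hy
      exact ⟨⟨g.1, hg⟩, hgx⟩
  refine cl_of_rank hb x (X := stabilizer A x) ((MulEquiv.isSimpleGroup_congr e).mpr hS) rfl B ?_ hoB hdisj ?_ b hcb N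
    hN2 ?_ hnum
  · intro i a ha c hc
    obtain ⟨g, hg, hgx, hga⟩ := hB i a ha c hc
    exact ⟨⟨g.1, hg⟩, hgx, hga⟩
  · intro g
    refine cover_of hPfin x hxP B hBP hoB hdisj ?_ (hPinv ⟨g.1, hA g.2⟩ g.2)
    simp_rw [hcb, hPN]
    exact hsum
  · rw [index_stabilizer, hP, hPN]

theorem field_four : ∃ (F : Type) (_ : Field F) (_ : Fintype F), Fintype.card F = 4 := by
  have : Fact (Nat.Prime 2) := ⟨Nat.prime_two⟩
  let _ : Fintype (GaloisField 2 2) := Fintype.ofFinite _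
  refine ⟨GaloisField 2 2, inferInstance, inferInstance, ?_⟩
  rw [← Nat.card_eq_fintype_card, GaloisField.card 2 2 (by norm_num)]
  norm_num

theorem field_nine : ∃ (F : Type) (_ : Field F) (_ : Fintype F), Fintype.card F = 9 := by
  have : Fact (Nat.Prime 3) := ⟨Nat.prime_three⟩
  let _ : Fintype (GaloisField 3 2) := Fintype.ofFinite _
  refine ⟨GaloisField 3 2, inferInstance, inferInstance, ?_⟩
  rw [← Nat.card_eq_fintype_card, GaloisField.card 3 2 (by norm_num)]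
  norm_num

/-! ### McL -/

/-- minus `(4, 4, 0²²)` -/
def nU : leechLattice := -Spor.leechU

theorem nV : sqNorm ((Spor.leechV : leechLattice) : GolayPt → ℤ) = 48 := by
  change sqNorm Spor.vecV = 48
  decide

theorem nnU : sqNorm ((nU : leechLattice) : GolayPt → ℤ) = 32 := by
  change sqNorm (-Spor.vecU) = 32
  decide

theorem nVU : sqNorm (((Spor.leechV : leechLattice) : GolayPt → ℤ) - ((nU : leechLattice) : GolayPt → ℤ)) = 32 := by
  change sqNorm (Spor.vecV - -Spor.vecU) = 32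
  decide

theorem fix_nU {g : Co0} : g • nU = nU ↔ g • Spor.leechU = Spor.leechU := by
  unfold nU
  rw [Cfsg.Agent.Leech.FrameAux.co0_neg, neg_inj]

theorem mem_McL {g : Co0} : (g : Equiv.Perm leechLattice) ∈ Spor.McL ↔ g • Spor.leechV = Spor.leechV ∧ g • nU = nU := by
  rw [fix_nU]
  exact ⟨fun h => ⟨h.1.2, h.2⟩, fun h => ⟨⟨g.2, h.1⟩, h.2⟩⟩

theorem McL_le : Spor.McL ≤ Co0 := fun _ hg => hg.1.1

theorem HS_le : Spor.HS ≤ Co0 := fun _ hg => hg.1.1

theorem Co3_le : Spor.Co3 ≤ Co0 := fun _ hg => hg.1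

theorem Co2_le : Spor.Co2 ≤ Co0 := fun _ hg => hg.1

/-- the 275 points -/
def PM : Set leechLattice := {x : ↥leechLattice | sqNorm (x : GolayPt → ℤ) = 32 ∧
  sqNorm ((Spor.leechV - x) : GolayPt → ℤ) = 32 ∧ dotInt (nU : GolayPt → ℤ) (x : GolayPt → ℤ) = 16}

theorem PM_eq (x : leechLattice) : x ∈ PM ↔ dt x x = 32 ∧ dt (Spor.leechV - x) (Spor.leechV - x) = 32 ∧ dt nU x = 16 := by
  rw [← norm_eq, ← norm_eq]
  rfl

theorem PM_smul {g : Co0} (h1 : g • Spor.leechV = Spor.leechV) (h2 : g • nU = nU) {x : leechLattice} (hx : x ∈ PM) :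
    g • x ∈ PM := by
  rw [PM_eq] at hx ⊢
  have h3 : Spor.leechV - g • x = g • (Spor.leechV - x) := by
    rw [Cfsg.Agent.Leech.FrameAux.co0_sub, h1]
  refine ⟨(dt_smul g x x).trans hx.1, ?_, ?_⟩
  · rw [h3, dt_smul]; exact hx.2.1
  · rw [dt_smul_of_fix h2]; exact hx.2.2

theorem finite_mcl [Finite Spor.McL] [IsSimpleGroup Spor.McL] (hb : Below (Nat.card Spor.McL)) : CL Spor.McL := by
  obtain ⟨F, _, _, hF⟩ := field_nine
  obtain ⟨h275, htr⟩ := S1580.result Spor.leechV nU nV ⟨nnU, nVU⟩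
  have hne : PM.Nonempty := Set.nonempty_of_ncard_ne_zero (by unfold PM; rw [h275]; norm_num)
  obtain ⟨x, hx⟩ := hne
  obtain ⟨h112, h162, htr2⟩ := S1581.result Spor.leechV nU x nV ⟨nnU, nVU⟩ hx
  have hxx : dotInt (x : GolayPt → ℤ) (x : GolayPt → ℤ) = 32 := ((PM_eq x).1 hx).1
  refine cl_leech (ι := Fin 2) McL_le hb x PM hx ?_ ?_
    (S0283.result (by rw [hF]; norm_num) 4 (by norm_num) (by norm_num) : IsSimpleGroup (PSU 4 F 3)) ?_
    ![{y : ↥leechLattice | y ∈ PM ∧ dotInt (x : GolayPt → ℤ) (y : GolayPt → ℤ) = 8},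
      {y : ↥leechLattice | y ∈ PM ∧ y ≠ x ∧ dotInt (x : GolayPt → ℤ) (y : GolayPt → ℤ) = 16}]
    ?_ ?_ ?_ ?_ ![112, 162] ?_ 275 h275 (by norm_num) (by decide) (by decide)
  · intro g hg
    obtain ⟨h1, h2⟩ := mem_McL.1 hg
    exact PM_smul h1 h2 hx
  · intro y hy
    obtain ⟨g, h1, h2, h3⟩ := htr x hx y hy
    exact ⟨g, mem_McL.2 ⟨h1, h2⟩, h3⟩
  · obtain ⟨e⟩ := S1582.result Spor.leechV nU x nV ⟨nnU, nVU⟩ hx F hF
    refine ⟨(stabEquiv McL_le x _ fun g => ?_).trans e⟩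
    rw [mem_McL]
    exact Iff.rfl
  · intro i a ha c hc
    fin_cases i
    · obtain ⟨g, h1, h2, h3, h4⟩ := htr2 a ha.1 c hc.1 (by rintro rfl; rw [ha.2] at hxx; omega)
        (by rintro rfl; rw [hc.2] at hxx; omega) (ha.2.trans hc.2.symm)
      exact ⟨g, mem_McL.2 ⟨h1, h2⟩, h3, h4⟩
    · obtain ⟨g, h1, h2, h3, h4⟩ := htr2 a ha.1 c hc.1 ha.2.1 hc.2.1 (ha.2.2.trans hc.2.2.symm)
      exact ⟨g, mem_McL.2 ⟨h1, h2⟩, h3, h4⟩
  · intro i
    fin_cases i
    · exact fun y hy => hy.1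
    · exact fun y hy => hy.1
  · intro i
    fin_cases i
    · rintro ⟨-, h⟩
      rw [hxx] at h; omega
    · rintro ⟨-, h, -⟩
      exact h rfl
  · intro i j hij
    rw [Set.disjoint_left]
    fin_cases i <;> fin_cases j
    · exact absurd rfl hij
    · rintro y ⟨-, h⟩ ⟨-, -, h'⟩; rw [h] at h'; omega
    · rintro y ⟨-, -, h⟩ ⟨-, h'⟩; rw [h] at h'; omega
    · exact absurd rfl hij
  · intro i
    fin_cases i
    · exact h112
    · exact h162

theorem cl_McL {G : Type*} [Group G] [Finite G] [IsSimpleGroup G] (h : Spor.IsoMcL G)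
    (hb : Below (Nat.card G)) : CL G := by
  obtain ⟨e⟩ := h
  exact congr e hb fun {_ _} hb => finite_mcl hb

/-! ### HS -/

/-- the second vector of norm 48 -/
def wH : leechLattice := -(Spor.leechV + Spor.leechU')

theorem nwH : sqNorm ((wH : leechLattice) : GolayPt → ℤ) = 48 := by
  change sqNorm (-(Spor.vecV + Spor.vecU')) = 48
  decide

theorem dVw : dotInt ((Spor.leechV : leechLattice) : GolayPt → ℤ) ((wH : leechLattice) : GolayPt → ℤ) = -32 := by
  change dotInt Spor.vecV (-(Spor.vecV + Spor.vecU')) = -32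
  decide

theorem mem_HS {g : Co0} : (g : Equiv.Perm leechLattice) ∈ Spor.HS ↔ g • Spor.leechV = Spor.leechV ∧ g • wH = wH := by
  constructor
  · rintro ⟨⟨-, h1⟩, h2⟩
    have h1' : g • Spor.leechV = Spor.leechV := h1
    have h2' : g • Spor.leechU' = Spor.leechU' := h2
    refine ⟨h1', ?_⟩
    unfold wH
    rw [Cfsg.Agent.Leech.FrameAux.co0_neg, Cfsg.Agent.Leech.FrameAux.co0_add, h1', h2']
  · rintro ⟨h1, h2⟩
    refine ⟨⟨g.2, h1⟩, ?_⟩
    unfold wH at h2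
    rw [Cfsg.Agent.Leech.FrameAux.co0_neg, Cfsg.Agent.Leech.FrameAux.co0_add, h1, neg_inj] at h2
    exact add_left_cancel h2

/-- the 100 points -/
def PH : Set leechLattice := {x : ↥leechLattice | sqNorm (x : GolayPt → ℤ) = 32 ∧
  dotInt (Spor.leechV : GolayPt → ℤ) (x : GolayPt → ℤ) = 24 ∧ dotInt (wH : GolayPt → ℤ) (x : GolayPt → ℤ) = -24}

theorem PH_eq (x : leechLattice) : x ∈ PH ↔ dt x x = 32 ∧ dt Spor.leechV x = 24 ∧ dt wH x = -24 := by
  rw [← norm_eq]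
  rfl

theorem PH_smul {g : Co0} (h1 : g • Spor.leechV = Spor.leechV) (h2 : g • wH = wH) {x : leechLattice} (hx : x ∈ PH) :
    g • x ∈ PH := by
  rw [PH_eq] at hx ⊢
  exact ⟨(dt_smul g x x).trans hx.1, by rw [dt_smul_of_fix h1]; exact hx.2.1, by rw [dt_smul_of_fix h2]; exact hx.2.2⟩

theorem nU_mem : nU ∈ PH := by
  refine ⟨nnU, ?_, ?_⟩
  · change dotInt Spor.vecV (-Spor.vecU) = 24
    decide
  · change dotInt (-(Spor.vecV + Spor.vecU')) (-Spor.vecU) = -24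
    decide

theorem perm_fix {σ : M24} (hn : (σ : Equiv.Perm GolayPt) none = none) (h0 : (σ : Equiv.Perm GolayPt) (some 0) = some 0)
    {v : leechLattice} (hv : ∀ i j : GolayPt, i ≠ none → i ≠ some 0 → j ≠ none → j ≠ some 0 →
      (v : GolayPt → ℤ) i = (v : GolayPt → ℤ) j) : SporadicA.Co0Mono.permCo0 σ • v = v := by
  apply Subtype.ext
  rw [SporadicA.Co0Mono.permCo0_smul]
  funext i
  show (v : GolayPt → ℤ) ((σ : Equiv.Perm GolayPt).symm i) = (v : GolayPt → ℤ) i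
  have h1 : (σ : Equiv.Perm GolayPt).symm i = none ↔ i = none := by
    rw [Equiv.symm_apply_eq, hn]
  have h2 : (σ : Equiv.Perm GolayPt).symm i = some 0 ↔ i = some 0 := by
    rw [Equiv.symm_apply_eq, h0]
  by_cases hi : i = none
  · rw [h1.2 hi, hi]
  · by_cases hi' : i = some 0
    · rw [h2.2 hi', hi']
    · exact hv _ _ (fun h => hi (h1.1 h)) (fun h => hi' (h2.1 h)) hi hi'

theorem fix_vecs {σ : M24} (hn : (σ : Equiv.Perm GolayPt) none = none) (h0 : (σ : Equiv.Perm GolayPt) (some 0) = some 0) :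
    SporadicA.Co0Mono.permCo0 σ • Spor.leechV = Spor.leechV ∧
    SporadicA.Co0Mono.permCo0 σ • Spor.leechU' = Spor.leechU' ∧ SporadicA.Co0Mono.permCo0 σ • nU = nU := by
  refine ⟨perm_fix hn h0 ?_, perm_fix hn h0 ?_, perm_fix hn h0 ?_⟩
  · intro i j h1 h2 h3 h4
    change Spor.vecV i = Spor.vecV j
    unfold Spor.vecV
    rw [if_neg h1, if_neg h3]
  · intro i j h1 h2 h3 h4
    change Spor.vecU' i = Spor.vecU' j
    unfold Spor.vecU'
    rw [if_neg h1, if_neg h3, if_neg h2, if_neg h4]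
  · intro i j h1 h2 h3 h4
    change -Spor.vecU i = -Spor.vecU j
    unfold Spor.vecU
    rw [if_neg (by rintro (h | h); exacts [h1 h, h2 h]), if_neg (by rintro (h | h); exacts [h3 h, h4 h])]

/-- `M22` in the point stabilizer -/
noncomputable def kM : Spor.M22 →* ↥(stabilizer Spor.HS nU) where
  toFun s := ⟨⟨(SporadicA.Co0Mono.permCo0 ⟨s.1, s.2.1.1⟩).1,
      ⟨(SporadicA.Co0Mono.permCo0 ⟨s.1, s.2.1.1⟩).2, (fix_vecs (σ := ⟨s.1, s.2.1.1⟩) s.2.1.2 s.2.2).1⟩,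
        (fix_vecs (σ := ⟨s.1, s.2.1.1⟩) s.2.1.2 s.2.2).2.1⟩,
      (fix_vecs (σ := ⟨s.1, s.2.1.1⟩) s.2.1.2 s.2.2).2.2⟩
  map_one' := by
    have h1 : SporadicA.Co0Mono.permCo0 ⟨(1 : Spor.M22).1, (1 : Spor.M22).2.1.1⟩ = 1 := map_one _
    exact Subtype.ext (Subtype.ext (congrArg (fun z : Co0 => (z : Equiv.Perm leechLattice)) h1))
  map_mul' a b := by
    have h1 : SporadicA.Co0Mono.permCo0 ⟨(a * b).1, (a * b).2.1.1⟩ =
      SporadicA.Co0Mono.permCo0 ⟨a.1, a.2.1.1⟩ * SporadicA.Co0Mono.permCo0 ⟨b.1, b.2.1.1⟩ :=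
      map_mul SporadicA.Co0Mono.permCo0 ⟨a.1, a.2.1.1⟩ ⟨b.1, b.2.1.1⟩
    exact Subtype.ext (Subtype.ext (congrArg (fun z : Co0 => (z : Equiv.Perm leechLattice)) h1))

theorem kM_inj : Function.Injective kM := by
  intro a b h
  have h1 : (SporadicA.Co0Mono.permCo0 ⟨a.1, a.2.1.1⟩) = (SporadicA.Co0Mono.permCo0 ⟨b.1, b.2.1.1⟩) :=
    Subtype.ext (congrArg (fun z : ↥(stabilizer Spor.HS nU) => ((z : Spor.HS) : Equiv.Perm leechLattice)) h)
  have h2 := Cfsg.Agent.CoOneType.Thirteen.permCo0_injective h1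
  exact Subtype.ext (congrArg (fun z : M24 => (z : Equiv.Perm GolayPt)) h2)

theorem finite_hs [Finite Spor.HS] [IsSimpleGroup Spor.HS] (hb : Below (Nat.card Spor.HS)) : CL Spor.HS := by
  obtain ⟨h100, htr⟩ := S1583.result Spor.leechV wH nV nwH dVw
  obtain ⟨h22, h77, htr2⟩ := S1584.result Spor.leechV wH nU nV nwH dVw nU_mem
  have hxx : dotInt (nU : GolayPt → ℤ) (nU : GolayPt → ℤ) = 32 := ((PH_eq nU).1 nU_mem).1
  have hP : orbit Spor.HS nU = PH := by
    ext y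
    constructor
    · rintro ⟨g, rfl⟩
      obtain ⟨h1, h2⟩ := mem_HS.1 (show ((⟨g.1, HS_le g.2⟩ : Co0) : Equiv.Perm leechLattice) ∈ Spor.HS from g.2)
      exact PH_smul h1 h2 nU_mem
    · intro hy
      obtain ⟨g, h1, h2, h3⟩ := htr nU nU_mem y hy
      exact ⟨⟨g.1, mem_HS.2 ⟨h1, h2⟩⟩, h3⟩
  have hc : Nat.card ↥(stabilizer Spor.HS nU) = 443520 := by
    have h1 := (stabilizer Spor.HS nU).index_mul_card
    rw [index_stabilizer, hP, NotCT.Orders.hs ⟨MulEquiv.refl _⟩] at h1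
    have h2 : PH.ncard = 100 := h100
    rw [h2] at h1
    omega
  have hbij : Function.Bijective kM := kM_inj.bijective_of_nat_card_le (by
    rw [hc, SporadicA.MathieuRecog.card_M22])
  refine cl_leech (ι := Fin 2) HS_le hb nU PH nU_mem ?_ ?_
    SporadicA.MathieuRecog.simple_M22 ⟨(MulEquiv.ofBijective kM hbij).symm⟩
    ![{y : ↥leechLattice | y ∈ PH ∧ dotInt (nU : GolayPt → ℤ) (y : GolayPt → ℤ) = 8},
      {y : ↥leechLattice | y ∈ PH ∧ y ≠ nU ∧ dotInt (nU : GolayPt → ℤ) (y : GolayPt → ℤ) ≠ 8}]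
    ?_ ?_ ?_ ?_ ![22, 77] ?_ 100 h100 (by norm_num) (by decide) (by decide)
  · intro g hg
    obtain ⟨h1, h2⟩ := mem_HS.1 hg
    exact PH_smul h1 h2 nU_mem
  · intro y hy
    obtain ⟨g, h1, h2, h3⟩ := htr nU nU_mem y hy
    exact ⟨g, mem_HS.2 ⟨h1, h2⟩, h3⟩
  · intro i a ha c hc
    fin_cases i
    · obtain ⟨g, h1, h2, h3, h4⟩ := htr2 a ha.1 c hc.1 (by rintro rfl; rw [ha.2] at hxx; omega)
        (by rintro rfl; rw [hc.2] at hxx; omega) (iff_of_true ha.2 hc.2)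
      exact ⟨g, mem_HS.2 ⟨h1, h2⟩, h3, h4⟩
    · obtain ⟨g, h1, h2, h3, h4⟩ := htr2 a ha.1 c hc.1 ha.2.1 hc.2.1 (iff_of_false ha.2.2 hc.2.2)
      exact ⟨g, mem_HS.2 ⟨h1, h2⟩, h3, h4⟩
  · intro i
    fin_cases i
    · exact fun y hy => hy.1
    · exact fun y hy => hy.1
  · intro i
    fin_cases i
    · rintro ⟨-, h⟩
      rw [hxx] at h; omega
    · rintro ⟨-, h, -⟩
      exact h rfl
  · intro i j hij
    rw [Set.disjoint_left]
    fin_cases i <;> fin_cases j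
    · exact absurd rfl hij
    · rintro y ⟨-, h⟩ ⟨-, -, h'⟩; exact h' h
    · rintro y ⟨-, -, h⟩ ⟨-, h'⟩; exact h h'
    · exact absurd rfl hij
  · intro i
    fin_cases i
    · exact h22
    · exact h77

theorem cl_HS {G : Type*} [Group G] [Finite G] [IsSimpleGroup G] (h : Spor.IsoHS G)
    (hb : Below (Nat.card G)) : CL G := by
  obtain ⟨e⟩ := h
  exact congr e hb fun {_ _} hb => finite_hs hb

/-! ### Co3 -/

theorem simple_McL : IsSimpleGroup Spor.McL := by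
  obtain ⟨H, Y, _, _, _, _, a, b, c, -, -, h2, ⟨e⟩⟩ :=
    Cfsg.Agent.SporadicRecognition.McLAssemble.mcl_rank
  exact e.symm.isSimpleGroup_congr.2 h2

theorem mem_Co3 {g : Co0} : (g : Equiv.Perm leechLattice) ∈ Spor.Co3 ↔ g • Spor.leechV = Spor.leechV :=
  ⟨fun h => h.2, fun h => ⟨g.2, h⟩⟩

/-- the 552 vectors -/
def P3 : Set leechLattice := {v : ↥leechLattice | sqNorm (v : GolayPt → ℤ) = 32 ∧
  sqNorm ((Spor.leechV - v) : GolayPt → ℤ) = 32}

theorem P3_eq (x : leechLattice) : x ∈ P3 ↔ dt x x = 32 ∧ dt (Spor.leechV - x) (Spor.leechV - x) = 32 := by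
  rw [← norm_eq, ← norm_eq]
  rfl

theorem dVV : dt Spor.leechV Spor.leechV = 48 := by rw [← norm_eq]; exact nV

theorem P3_iff (x : leechLattice) : x ∈ P3 ↔ dt x x = 32 ∧ dt Spor.leechV x = 24 := by
  rw [P3_eq]
  simp only [dt_sub_left, dt_sub_right]
  rw [dt_comm x Spor.leechV, dVV]
  constructor
  · rintro ⟨h1, h2⟩; exact ⟨h1, by omega⟩
  · rintro ⟨h1, h2⟩; exact ⟨h1, by omega⟩

theorem nU_P3 : nU ∈ P3 := ⟨nnU, nVU⟩

theorem PM_iff (x : leechLattice) : x ∈ PM ↔ x ∈ P3 ∧ dt nU x = 16 := by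
  rw [PM_eq, P3_eq, and_assoc]

theorem sub_P3 {x : leechLattice} (h : x ∈ P3) : Spor.leechV - x ∈ P3 := by
  rw [P3_iff] at h ⊢
  simp only [dt_sub_left, dt_sub_right]
  rw [dt_comm x Spor.leechV, dVV]
  omega

theorem dnUV : dt nU Spor.leechV = 24 := by
  rw [dt_comm]; exact ((P3_iff nU).1 nU_P3).2

theorem dnUnU : dt nU nU = 32 := ((P3_iff nU).1 nU_P3).1

/-- the 275 opposite points -/
def PN : Set leechLattice := {x | x ∈ P3 ∧ dt nU x = 8}

theorem mem_PN {x : leechLattice} : x ∈ PN ↔ Spor.leechV - x ∈ PM := by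
  rw [PM_iff, dt_sub_right, dnUV]
  constructor
  · rintro ⟨h1, h2⟩; exact ⟨sub_P3 h1, by omega⟩
  · rintro ⟨h1, h2⟩
    have := sub_P3 h1
    rw [sub_sub_cancel] at this
    exact ⟨this, by omega⟩

theorem PN_eq : PN = (fun x => Spor.leechV - x) '' PM := by
  ext x
  rw [mem_PN]
  constructor
  · intro h; exact ⟨_, h, sub_sub_cancel _ _⟩
  · rintro ⟨y, hy, rfl⟩
    change Spor.leechV - (Spor.leechV - y) ∈ PM
    rw [sub_sub_cancel]; exact hy

theorem finite_co3 [Finite Spor.Co3] [IsSimpleGroup Spor.Co3] (hb : Below (Nat.card Spor.Co3)) : CL Spor.Co3 := by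
  obtain ⟨h275, htr⟩ := S1580.result Spor.leechV nU nV ⟨nnU, nVU⟩
  have h552 : P3.ncard = 552 := S1578.result Spor.leechV nV
  have hPN : PN.ncard = 275 := by
    rw [PN_eq, Set.ncard_image_of_injective _ (sub_right_injective)]
    exact h275
  let e : ↥(stabilizer Spor.Co3 nU) ≃* Spor.McL :=
    { toFun := fun g => ⟨g.1.1, g.1.2, (fix_nU (g := ⟨g.1.1, Co3_le g.1.2⟩)).1 g.2⟩
      invFun := fun g => ⟨⟨g.1, g.2.1⟩, (fix_nU (g := ⟨g.1, McL_le g.2⟩)).2 g.2.2⟩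
      left_inv := fun _ => rfl
      right_inv := fun _ => rfl
      map_mul' := fun _ _ => rfl }
  refine cl_leech (ι := Fin 3) Co3_le hb nU P3 nU_P3 ?_ ?_ simple_McL ⟨e⟩
    ![{Spor.leechV - nU}, PM, PN] ?_ ?_ ?_ ?_ ![1, 275, 275] ?_ 552 h552 (by norm_num) (by decide) (by decide)
  · intro g hg
    have h1 := mem_Co3.1 hg
    rw [P3_iff]
    exact ⟨(dt_smul g _ _).trans dnUnU, by rw [dt_smul_of_fix h1, dt_comm]; exact dnUV⟩
  · intro y hy
    obtain ⟨g, h1, h2⟩ := S1579.result Spor.leechV nU y nV ⟨nnU, nVU⟩ hy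
    exact ⟨g, mem_Co3.2 h1, h2⟩
  · intro i a ha c hc
    fin_cases i
    · refine ⟨1, mem_Co3.2 (one_smul _ _), one_smul _ _, ?_⟩
      rw [one_smul, show a = Spor.leechV - nU from ha, show c = Spor.leechV - nU from hc]
    · obtain ⟨g, h1, h2, h3⟩ := htr a ha c hc
      exact ⟨g, mem_Co3.2 h1, h2, h3⟩
    · obtain ⟨g, h1, h2, h3⟩ := htr _ (mem_PN.1 ha) _ (mem_PN.1 hc)
      refine ⟨g, mem_Co3.2 h1, h2, ?_⟩
      rw [Cfsg.Agent.Leech.FrameAux.co0_sub, h1] at h3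
      exact sub_right_injective h3
  · intro i
    fin_cases i
    · intro y hy
      rw [show y = Spor.leechV - nU from hy]
      exact sub_P3 nU_P3
    · exact fun y hy => ((PM_iff y).1 hy).1
    · exact fun y hy => hy.1
  · intro i
    fin_cases i
    · intro h
      have h1 := congrArg (dt nU) (show nU = Spor.leechV - nU from h)
      rw [dt_sub_right, dnUV, dnUnU] at h1
      omega
    · intro h
      have := ((PM_iff nU).1 h).2
      rw [dnUnU] at this; omega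
    · intro h
      have := h.2
      rw [dnUnU] at this; omega
  · have h01 : Disjoint ({Spor.leechV - nU} : Set leechLattice) PM := by
      rw [Set.disjoint_singleton_left]
      intro h
      have := ((PM_iff _).1 h).2
      rw [dt_sub_right, dnUV, dnUnU] at this; omega
    have h02 : Disjoint ({Spor.leechV - nU} : Set leechLattice) PN := by
      rw [Set.disjoint_singleton_left]
      intro h
      have := h.2
      rw [dt_sub_right, dnUV, dnUnU] at this; omega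
    have h12 : Disjoint PM PN := by
      rw [Set.disjoint_left]
      intro y hy hy'
      have h1 := ((PM_iff _).1 hy).2
      have h2 := hy'.2
      omega
    intro i j hij
    fin_cases i <;> fin_cases j
    · exact absurd rfl hij
    · exact h01
    · exact h02
    · exact h01.symm
    · exact absurd rfl hij
    · exact h12
    · exact h02.symm
    · exact h12.symm
    · exact absurd rfl hij
  · intro i
    fin_cases i
    · exact Set.ncard_singleton _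
    · exact h275
    · exact hPN

theorem cl_Co3 {G : Type*} [Group G] [Finite G] [IsSimpleGroup G] (h : Spor.IsoCo3 G)
    (hb : Below (Nat.card G)) : CL G := by
  obtain ⟨e⟩ := h
  exact congr e hb fun {_ _} hb => finite_co3 hb

/-! ### Co2 -/

theorem mem_Co2 {g : Co0} : (g : Equiv.Perm leechLattice) ∈ Spor.Co2 ↔ g • a0 = a0 :=
  ⟨fun h => h.2, fun h => ⟨g.2, h⟩⟩

/-- the opposites of `O0` -/
def O16 : Set leechLattice := {x | x ∈ Cfsg.Agent.SporadicStructure.Co2RankThree.A a0 ∧ dt y1 x = 16}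

theorem mem_O16 {x : leechLattice} : x ∈ O16 ↔ opp x ∈ O0 a0 y1 := by
  constructor
  · rintro ⟨h1, h2⟩
    have h3 := opp_mem_A h1
    exact ⟨h3.1, h3.2, by rw [dt_y1_opp]; omega⟩
  · rintro ⟨h1, h2, h3⟩
    have h4 := opp_mem_A (w := opp x) ⟨h1, h2⟩
    rw [opp_opp] at h4
    rw [dt_y1_opp] at h3
    exact ⟨h4, by omega⟩

theorem O16_eq : O16 = opp '' O0 a0 y1 := by
  ext x
  rw [mem_O16]
  constructor
  · intro h; exact ⟨_, h, opp_opp _⟩
  · rintro ⟨y, hy, rfl⟩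
    rw [opp_opp]; exact hy

theorem opp_inj : Function.Injective opp := fun a b h => by rw [← opp_opp a, h, opp_opp]

theorem finite_co2 [Finite Spor.Co2] [IsSimpleGroup Spor.Co2] (hb : Below (Nat.card Spor.Co2)) : CL Spor.Co2 := by
  obtain ⟨F, _, _, hF⟩ := field_four
  have h00 := dt_a0_a0
  have h11 : dt y1 y1 = 32 := y1_mem_A.1
  have h16 : O16.ncard = 891 := by
    rw [O16_eq, Set.ncard_image_of_injective _ opp_inj]
    exact ncard_O0 a0 y1 dt_a0_a0 y1_mem_A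
  refine cl_leech (ι := Fin 4) Co2_le hb y1 (Cfsg.Agent.SporadicStructure.Co2RankThree.A a0) y1_mem_A ?_ ?_
    (S0283.result (by rw [hF]; norm_num) 6 (by norm_num) (by norm_num) : IsSimpleGroup (PSU 6 F 2)) ?_
    ![{opp y1}, O8 a0 y1, O0 a0 y1, O16] ?_ ?_ ?_ ?_ ![1, 2816, 891, 891] ?_ 4600 (ncard_A a0 dt_a0_a0)
    (by norm_num) (by decide) (by decide +kernel)
  · intro g hg
    exact ⟨(dt_smul g _ _).trans y1_mem_A.1, (dt_smul_of_fix (mem_Co2.1 hg) _).trans y1_mem_A.2⟩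
  · intro y hy
    obtain ⟨g, h1, h2⟩ := exists_A a0 y1 y dt_a0_a0 y1_mem_A hy
    exact ⟨g, mem_Co2.2 h1, h2⟩
  · obtain ⟨e⟩ := S1577.result a0 y1 (by rw [norm_eq]; exact dt_a0_a0) (by rw [norm_eq]; exact y1_mem_A.1)
      y1_mem_A.2 F hF
    refine ⟨(stabEquiv Co2_le y1 _ fun g => ?_).trans e⟩
    rw [mem_Co2]
    exact Iff.rfl
  · intro i a ha c hc
    fin_cases i
    · refine ⟨1, mem_Co2.2 (one_smul _ _), one_smul _ _, ?_⟩
      rw [one_smul, show a = opp y1 from ha, show c = opp y1 from hc]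
    · obtain ⟨g, h1, h2, h3⟩ := trans_O8 a0 y1 a c dt_a0_a0 y1_mem_A ha hc
      exact ⟨g, mem_Co2.2 h1, h2, h3⟩
    · obtain ⟨g, h1, h2, h3⟩ := trans_O0 a0 y1 a c dt_a0_a0 y1_mem_A ha hc
      exact ⟨g, mem_Co2.2 h1, h2, h3⟩
    · obtain ⟨g, h1, h2, h3⟩ := trans_O0 a0 y1 _ _ dt_a0_a0 y1_mem_A (mem_O16.1 ha) (mem_O16.1 hc)
      refine ⟨g, mem_Co2.2 h1, h2, ?_⟩
      rw [smul_opp g h1] at h3
      exact opp_inj h3
  · intro i
    fin_cases i
    · intro y hy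
      rw [show y = opp y1 from hy]
      exact opp_mem_A y1_mem_A
    · exact fun y hy => ⟨hy.1, hy.2.1⟩
    · exact fun y hy => ⟨hy.1, hy.2.1⟩
    · exact fun y hy => hy.1
  · intro i
    fin_cases i
    · intro h
      exact opp_ne y1_mem_A (show y1 = opp y1 from h).symm
    · rintro ⟨-, -, h⟩
      rw [h11] at h; omega
    · rintro ⟨-, -, h⟩
      rw [h11] at h; omega
    · rintro ⟨-, h⟩
      rw [h11] at h; omega
  · have key : ∀ i : Fin 4, ∀ y ∈ (![{opp y1}, O8 a0 y1, O0 a0 y1, O16] : Fin 4 → Set leechLattice) i,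
        dt y1 y = (![-16, 8, 0, 16] : Fin 4 → ℤ) i := by
      intro i y hy
      fin_cases i
      · rw [show y = opp y1 from hy, dt_y1_opp, h11]; rfl
      · exact hy.2.2
      · exact hy.2.2
      · exact hy.2
    intro i j hij
    rw [Set.disjoint_left]
    intro y hy hy'
    have h1 := key i y hy
    have h2 := key j y hy'
    rw [h1] at h2
    revert h2
    fin_cases i <;> fin_cases j
    all_goals first
      | exact absurd rfl hij
      | decide
  · intro i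
    fin_cases i
    · exact Set.ncard_singleton _
    · exact ncard_O8 a0 y1 dt_a0_a0 y1_mem_A
    · exact ncard_O0 a0 y1 dt_a0_a0 y1_mem_A
    · exact h16

theorem cl_Co2 {G : Type*} [Group G] [Finite G] [IsSimpleGroup G] (h : Spor.IsoCo2 G)
    (hb : Below (Nat.card G)) : CL G := by
  obtain ⟨e⟩ := h
  exact congr e hb fun {_ _} hb => finite_co2 hb

end Cfsg.Agent.H13.RankLeech
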